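import Groth.Prelude.Def_CohCx
import Mathlib.Algebra.Homology.DerivedCategory.SingleTriangle
import Mathlib.CategoryTheory.Sites.SheafCohomology.MayerVietoris

/-! # Mayer-Vietoris for hypercohomology on sites -/

set_option autoImplicit false
set_option linter.all false
set_option backward.isDefEq.respectTransparency false
set_option backward.defeqAttrib.useBackward true

noncomputable section

universe v u

open CategoryTheory Limits Pretriangulated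

namespace Groth.Agent.SiteHDU

section

variable {D : Type u} [Category.{v} D] [HasZeroObject D] [HasShift D ℤ] [Preadditive D]
  [∀ n : ℤ, (shiftFunctor D n).Additive] [Pretriangulated D]

/-- long exact sequence of a distinguished triangle whose middle term splits in two -/
theorem split_triangle_exact (T : Triangle D) (hT : T ∈ distTriang D) {A₂ A₃ : D} (i₂ : A₂ ⟶ T.obj₂) (i₃ : A₃ ⟶ T.obj₂)
    (p₂ : T.obj₂ ⟶ A₂) (p₃ : T.obj₂ ⟶ A₃) (h₂₂ : i₂ ≫ p₂ = 𝟙 _) (h₂₃ : i₂ ≫ p₃ = 0)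
    (h₃₂ : i₃ ≫ p₂ = 0) (h₃₃ : i₃ ≫ p₃ = 𝟙 _) (htot : p₂ ≫ i₂ + p₃ ≫ i₃ = 𝟙 _)
    (r₁₂ : T.obj₁ ⟶ A₂) (r₁₃ : T.obj₁ ⟶ A₃) (r₂₄ : A₂ ⟶ T.obj₃) (r₃₄ : A₃ ⟶ T.obj₃)
    (hf : T.mor₁ = r₁₂ ≫ i₂ - r₁₃ ≫ i₃) (hg₂ : i₂ ≫ T.mor₂ = r₂₄) (hg₃ : i₃ ≫ T.mor₂ = r₃₄)
    (X Y : D) (e : X⟦(1 : ℤ)⟧ ≅ Y) :
    (∀ c : T.obj₃ ⟶ X, r₁₂ ≫ r₂₄ ≫ c + -(r₁₃ ≫ r₃₄ ≫ c) = 0) ∧
    (∀ (b₂ : A₂ ⟶ X) (b₃ : A₃ ⟶ X), r₁₂ ≫ b₂ + -(r₁₃ ≫ b₃) = 0 → ∃ c, r₂₄ ≫ c = b₂ ∧ r₃₄ ≫ c = b₃) ∧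
    (∀ (b₂ : A₂ ⟶ X) (b₃ : A₃ ⟶ X), T.mor₃ ≫ (r₁₂ ≫ b₂ + -(r₁₃ ≫ b₃))⟦(1 : ℤ)⟧' ≫ e.hom = 0) ∧
    (∀ a : T.obj₁ ⟶ X, T.mor₃ ≫ a⟦(1 : ℤ)⟧' ≫ e.hom = 0 → ∃ b₂ b₃, r₁₂ ≫ b₂ + -(r₁₃ ≫ b₃) = a) ∧
    (∀ a : T.obj₁ ⟶ X, r₂₄ ≫ T.mor₃ ≫ a⟦(1 : ℤ)⟧' ≫ e.hom = 0 ∧ r₃₄ ≫ T.mor₃ ≫ a⟦(1 : ℤ)⟧' ≫ e.hom = 0) ∧
    (∀ c : T.obj₃ ⟶ Y, r₂₄ ≫ c = 0 → r₃₄ ≫ c = 0 → ∃ a : T.obj₁ ⟶ X, T.mor₃ ≫ a⟦(1 : ℤ)⟧' ≫ e.hom = c) := by
  subst hg₂ hg₃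
  have z₁ := comp_distTriang_mor_zero₁₂ T hT
  have z₂ := comp_distTriang_mor_zero₂₃ T hT
  have z₃ := comp_distTriang_mor_zero₃₁ T hT
  have hdec : ∀ {Z : D} (b : T.obj₂ ⟶ Z), T.mor₁ ≫ b = r₁₂ ≫ i₂ ≫ b + -(r₁₃ ≫ i₃ ≫ b) := fun b => by
    rw [hf, Preadditive.sub_comp, sub_eq_add_neg, Category.assoc, Category.assoc]
  have hext : ∀ {Z : D} (b : T.obj₂ ⟶ Z), b = p₂ ≫ i₂ ≫ b + p₃ ≫ i₃ ≫ b := fun b => by
    rw [← Category.assoc p₂, ← Category.assoc p₃, ← Preadditive.add_comp, htot, Category.id_comp]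
  have hpair : ∀ {Z : D} (b₂ : A₂ ⟶ Z) (b₃ : A₃ ⟶ Z), ∃ b : T.obj₂ ⟶ Z, i₂ ≫ b = b₂ ∧ i₃ ≫ b = b₃ := fun b₂ b₃ =>
    ⟨p₂ ≫ b₂ + p₃ ≫ b₃, by simp [reassoc_of% h₂₂, reassoc_of% h₂₃], by simp [reassoc_of% h₃₂, reassoc_of% h₃₃]⟩
  refine ⟨fun c => ?_, fun b₂ b₃ h => ?_, fun b₂ b₃ => ?_, fun a ha => ?_, fun a => ?_, fun c h₂ h₃ => ?_⟩
  · simp only [Category.assoc]
    rw [← hdec (T.mor₂ ≫ c), reassoc_of% z₁, zero_comp]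
  · obtain ⟨b, rfl, rfl⟩ := hpair b₂ b₃
    obtain ⟨c, rfl⟩ := Triangle.yoneda_exact₂ T hT b ((hdec b).trans h)
    exact ⟨c, Category.assoc _ _ _, Category.assoc _ _ _⟩
  · obtain ⟨b, rfl, rfl⟩ := hpair b₂ b₃
    rw [← hdec b, Functor.map_comp, Category.assoc, reassoc_of% z₃, zero_comp]
  · have ha' : T.mor₃ ≫ a⟦(1 : ℤ)⟧' = 0 := by
      rw [← cancel_mono e.hom, Category.assoc, zero_comp]
      exact ha
    obtain ⟨g, hg⟩ := Triangle.yoneda_exact₃ T.rotate (rot_of_distTriang _ hT) (a⟦(1 : ℤ)⟧') ha'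
    obtain ⟨b, hb⟩ := (shiftFunctor D (1 : ℤ)).map_surjective g
    refine ⟨i₂ ≫ (-b), i₃ ≫ (-b), (hdec (-b)).symm.trans ?_⟩
    apply (shiftFunctor D (1 : ℤ)).map_injective
    rw [hg, ← hb, Functor.map_comp, Functor.map_neg, Preadditive.comp_neg]
    simp [Triangle.rotate]
  · constructor <;> rw [Category.assoc, reassoc_of% z₂, zero_comp, comp_zero]
  · have hc : T.mor₂ ≫ c = 0 := by
      rw [hext (T.mor₂ ≫ c), ← Category.assoc i₂, ← Category.assoc i₃, h₂, h₃, comp_zero, comp_zero, add_zero]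
    obtain ⟨d, rfl⟩ := Triangle.yoneda_exact₃ T hT c hc
    obtain ⟨a, ha⟩ := (shiftFunctor D (1 : ℤ)).map_surjective (d ≫ e.inv)
    exact ⟨a, by rw [ha, Category.assoc, Iso.inv_hom_id, Category.comp_id]⟩

end

variable {C : Type u} [SmallCategory C] {J : GrothendieckTopology C}
  [HasWeakSheafify J (Type u)] [HasDerivedCategory.{u} (Sheaf J AddCommGrpCat.{u})]
  (S : J.MayerVietorisSquare) (K : DerivedCategory (Sheaf J AddCommGrpCat.{u}))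

/-- connecting map -/
def mvδ (n : ℤ) : CohCx.HDU K n S.X₁ →+ CohCx.HDU K (n + 1) S.X₄ :=
  AddMonoidHom.mk'
    (fun a => S.shortComplex_shortExact.singleδ ≫ a⟦(1 : ℤ)⟧' ≫
      (shiftFunctorAdd' _ n 1 (n + 1) rfl).inv.app K)
    (fun a b => by simp [Functor.map_add])

theorem mv_exact (n : ℤ) :
    (ComposableArrows.mk₂
      (AddCommGrpCat.ofHom ((CohCx.HDUres K n S.f₂₄).prod (CohCx.HDUres K n S.f₃₄)))
      (AddCommGrpCat.ofHom ((CohCx.HDUres K n S.f₁₂).coprod (-(CohCx.HDUres K n S.f₁₃))))).Exact ∧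
    (ComposableArrows.mk₂
      (AddCommGrpCat.ofHom ((CohCx.HDUres K n S.f₁₂).coprod (-(CohCx.HDUres K n S.f₁₃))))
      (AddCommGrpCat.ofHom (mvδ S K n))).Exact ∧
    (ComposableArrows.mk₂ (AddCommGrpCat.ofHom (mvδ S K n))
      (AddCommGrpCat.ofHom ((CohCx.HDUres K (n + 1) S.f₂₄).prod (CohCx.HDUres K (n + 1) S.f₃₄)))).Exact := by
  let F := DerivedCategory.singleFunctor (Sheaf J AddCommGrpCat.{u}) 0
  let m {U V : C} (g : V ⟶ U) := CohCx.freeSheafMap J g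
  obtain ⟨k₁, k₂, k₃, k₄, k₅, k₆⟩ := split_triangle_exact _ S.shortComplex_shortExact.singleTriangle_distinguished
    (F.map (biprod.inl : CohCx.freeSheaf J S.X₂ ⟶ CohCx.freeSheaf J S.X₂ ⊞ CohCx.freeSheaf J S.X₃)) (F.map biprod.inr)
    (F.map biprod.fst) (F.map biprod.snd)
    (by rw [← F.map_comp, biprod.inl_fst, F.map_id])
    (by rw [← F.map_comp, biprod.inl_snd, F.map_zero])
    (by rw [← F.map_comp, biprod.inr_fst, F.map_zero])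
    (by rw [← F.map_comp, biprod.inr_snd, F.map_id])
    (by rw [← F.map_comp, ← F.map_comp, ← F.map_add, biprod.total]; exact F.map_id _)
    (F.map (m S.f₁₂)) (F.map (m S.f₁₃)) (F.map (m S.f₂₄)) (F.map (m S.f₃₄))
    (by
      rw [← F.map_comp, ← F.map_comp, ← F.map_sub]
      refine congrArg F.map ?_
      apply biprod.hom_ext <;> simp [GrothendieckTopology.MayerVietorisSquare.shortComplex, m])
    ((F.map_comp _ _).symm.trans (congrArg F.map (biprod.inl_desc _ _)))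
    ((F.map_comp _ _).symm.trans (congrArg F.map (biprod.inr_desc _ _)))
    _ _ ((shiftFunctorAdd' _ n 1 (n + 1) rfl).app K).symm
  refine ⟨ComposableArrows.exact₂_mk _ ?_ ?_, ComposableArrows.exact₂_mk _ ?_ ?_,
    ComposableArrows.exact₂_mk _ ?_ ?_⟩
  · exact AddCommGrpCat.ext k₁
  · refine (ShortComplex.ab_exact_iff _).2 fun ⟨b₂, b₃⟩ h => ?_
    obtain ⟨c, rfl, rfl⟩ := k₂ b₂ b₃ h
    exact ⟨c, rfl⟩
  · exact AddCommGrpCat.ext fun ⟨b₂, b₃⟩ => k₃ b₂ b₃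
  · refine (ShortComplex.ab_exact_iff _).2 fun a h => ?_
    obtain ⟨b₂, b₃, rfl⟩ := k₄ a h
    exact ⟨(b₂, b₃), rfl⟩
  · exact AddCommGrpCat.ext fun a => Prod.ext (k₅ a).1 (k₅ a).2
  · refine (ShortComplex.ab_exact_iff _).2 fun c h => ?_
    exact k₆ c (congrArg Prod.fst h) (congrArg Prod.snd h)

end Groth.Agent.SiteHDU
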