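import Groth.Prelude.Def_CohCx
import Groth.Agent.SiteCoh.CohPresheaf
import Groth.Agent.CohTopLib.DerivedHom
import Groth.Agent.Resolve.Resolution

/-! # Hypercohomology presheaves on sites and their sheafification -/

set_option autoImplicit false
set_option linter.all false
set_option backward.isDefEq.respectTransparency false
set_option backward.defeqAttrib.useBackward true

noncomputable section

universe u

open CategoryTheory Limits Opposite DerivedCategory

namespace Groth.Agent.SiteHDU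

open Groth.Agent.SiteCoh (free secHom secHom_bijective freeMap secHom_freeMap)
open Groth.Agent.CohTopLib (dOf dOf_add map_comp_dOf dOf_eq_zero_of_boundary exists_boundary_of_dOf_eq_zero dOf_surjective)

variable {C : Type u} [SmallCategory C] {J : GrothendieckTopology C}
  [HasDerivedCategory.{u} (Sheaf J AddCommGrpCat.{u})]
  (L : CochainComplex (Sheaf J AddCommGrpCat.{u}) ℤ)

/-- The complex of presheaves underlying a complex of sheaves. -/
abbrev preZ : CochainComplex ((C)ᵒᵖ ⥤ AddCommGrpCat.{u}) ℤ :=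
  ((sheafToPresheaf (J) AddCommGrpCat.{u}).mapHomologicalComplex _).obj L

lemma exists_zMor (V : C) (z : ((preZ L).cycles 0).obj (op V)) :
    ∃ φ : free V ⟶ L.X 0, secHom _ V φ = ((preZ L).iCycles 0).app (op V) z ∧
      φ ≫ L.d 0 1 = 0 := by
  obtain ⟨φ, hφ⟩ := (secHom_bijective (L.X 0) V).2 (((preZ L).iCycles 0).app (op V) z)
  refine ⟨φ, hφ, (secHom_bijective (L.X 1) V).1 ?_⟩
  refine (congrArg ((L.d 0 1).hom.app (op V)) hφ).trans ?_
  exact (ConcreteCategory.congr_hom (congrArg (fun m => NatTrans.app m (op V))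
    ((preZ L).iCycles_d 0 1)) z).trans (map_zero _).symm

/-- A choice of map out of the free sheaf for a cycle. -/
def zMor (V : C) (z : ((preZ L).cycles 0).obj (op V)) : free V ⟶ L.X 0 :=
  (exists_zMor L V z).choose

lemma secHom_zMor (V : C) (z : ((preZ L).cycles 0).obj (op V)) :
    secHom _ V (zMor L V z) = ((preZ L).iCycles 0).app (op V) z :=
  (exists_zMor L V z).choose_spec.1

lemma zMor_d (V : C) (z : ((preZ L).cycles 0).obj (op V)) : zMor L V z ≫ L.d 0 1 = 0 :=
  (exists_zMor L V z).choose_spec.2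

lemma dOf_congr {V : C} {f g : free V ⟶ L.X 0} (hf : f ≫ L.d 0 1 = 0) (hg : g ≫ L.d 0 1 = 0)
    (h : secHom _ V f = secHom _ V g) : dOf f hf = dOf g hg := by
  obtain rfl := (secHom_bijective _ V).1 h
  rfl

/-- The class of a cycle. -/
def zClass (V : C) : ((preZ L).cycles 0).obj (op V) →+ CohCx.HDU (Q.obj L) 0 V :=
  AddMonoidHom.mk' (fun z => dOf (zMor L V z) (zMor_d L V z)) fun a b => by
    have hab : (zMor L V a + zMor L V b) ≫ L.d 0 1 = 0 := by
      rw [Preadditive.add_comp, zMor_d, zMor_d, add_zero]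
    refine Eq.trans (dOf_congr L (zMor_d L V (a + b)) hab ?_)
      (dOf_add _ _ (zMor_d L V a) (zMor_d L V b) hab)
    rw [map_add, secHom_zMor, secHom_zMor, secHom_zMor, map_add]

lemma zClass_res {V W : C} (hle : W ⟶ V) (z : ((preZ L).cycles 0).obj (op V)) :
    zClass L W (((preZ L).cycles 0).map hle.op z) =
      (singleFunctor (Sheaf J AddCommGrpCat.{u}) 0).map (freeMap hle) ≫ zClass L V z := by
  have h' : (freeMap hle ≫ zMor L V z) ≫ L.d 0 1 = 0 := by
    rw [Category.assoc, zMor_d, comp_zero]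
  refine Eq.trans ?_ (map_comp_dOf (freeMap hle) _ (zMor_d L V z) h').symm
  refine dOf_congr L (zMor_d L _ _) _ ?_
  rw [secHom_zMor, secHom_freeMap, secHom_zMor]
  exact ConcreteCategory.congr_hom (((preZ L).iCycles 0).naturality hle.op) z

lemma zClass_toCycles (V : C) (x : (L.X (-1)).obj.obj (op V)) :
    zClass L V (((preZ L).toCycles (-1) 0).app (op V) x) = 0 := by
  obtain ⟨g, hg⟩ := (secHom_bijective (L.X (-1)) V).2 x
  have h : (g ≫ L.d (-1) 0) ≫ L.d 0 1 = 0 := by rw [Category.assoc, L.d_comp_d, comp_zero]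
  refine Eq.trans (dOf_congr L (zMor_d L V _) h ?_) (dOf_eq_zero_of_boundary g h)
  rw [secHom_zMor]
  refine Eq.trans ?_ (congrArg ((L.d (-1) 0).hom.app (op V)) hg).symm
  exact ConcreteCategory.congr_hom (congrArg (fun m => NatTrans.app m (op V))
    ((preZ L).toCycles_i (-1) 0)) x

lemma zClass_surjective [L.IsKInjective] (V : C) : Function.Surjective (zClass L V) := by
  intro α
  obtain ⟨φ, hφ, rfl⟩ := dOf_surjective α
  have hS : (ShortComplex.mk ((preZ L).iCycles 0) ((preZ L).d 0 1)
      ((preZ L).iCycles_d 0 1)).Exact :=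
    ShortComplex.exact_of_f_is_kernel _ ((preZ L).cyclesIsKernel 0 1 (by simp))
  obtain ⟨z, hz⟩ := (ShortComplex.ab_exact_iff _).1
    (hS.map ((evaluation (C)ᵒᵖ AddCommGrpCat.{u}).obj (op V))) (secHom _ V φ)
    (congrArg (secHom (L.X 1) V) hφ)
  exact ⟨z, dOf_congr L (zMor_d L V z) hφ ((secHom_zMor L V z).trans hz)⟩

lemma zClass_eq_zero [L.IsKInjective] (V : C) (z : ((preZ L).cycles 0).obj (op V))
    (hz : zClass L V z = 0) : ∃ x, ((preZ L).toCycles (-1) 0).app (op V) x = z := by
  have hi : Function.Injective (((preZ L).iCycles 0).app (op V)) :=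
    (AddCommGrpCat.mono_iff_injective _).1 (NatTrans.mono_iff_mono_app _ |>.1 inferInstance (op V))
  obtain ⟨g, hg⟩ := exists_boundary_of_dOf_eq_zero _ (zMor_d L V z) hz
  refine ⟨secHom _ V g, hi ?_⟩
  refine Eq.trans ?_ (secHom_zMor L V z)
  rw [← hg]
  exact ConcreteCategory.congr_hom (congrArg (fun m => NatTrans.app m (op V))
    ((preZ L).toCycles_i (-1) 0)) (secHom _ V g)

/-- A natural family of maps out of cycles with kernel the boundaries computes homology. -/
lemma exists_homology_iso (A : (C)ᵒᵖ ⥤ AddCommGrpCat.{u})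
    (Φ : ∀ V : C, ((preZ L).cycles 0).obj (op V) →+ A.obj (op V))
    (hnat : ∀ {V W : C} (hle : W ⟶ V) (z : ((preZ L).cycles 0).obj (op V)),
      Φ W (((preZ L).cycles 0).map hle.op z) = A.map hle.op (Φ V z))
    (hsurj : ∀ V, Function.Surjective (Φ V))
    (hker : ∀ V z, Φ V z = 0 ↔ ∃ x, ((preZ L).toCycles (-1) 0).app (op V) x = z) :
    Nonempty ((preZ L).homology 0 ≅ A) := by
  let φ : (preZ L).cycles 0 ⟶ A :=
    { app := fun V => AddCommGrpCat.ofHom (Φ V.unop)
      naturality := fun V W g => AddCommGrpCat.ext fun z => hnat g.unop z }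
  have h0 : (preZ L).toCycles (-1) 0 ≫ φ = 0 := by
    ext V x
    exact (hker V.unop _).2 ⟨x, rfl⟩
  let hc := (preZ L).homologyIsCokernel (-1) 0 (by simp)
  let ψ := CokernelCofork.IsColimit.desc' hc φ h0
  have hψ : ∀ V, Function.Bijective (ψ.1.app V) := by
    intro V
    have hπ : Function.Surjective (((preZ L).homologyπ 0).app V) :=
      (AddCommGrpCat.epi_iff_surjective _).1 (NatTrans.epi_iff_epi_app _ |>.1 inferInstance V)
    have hcomp : ∀ z, ψ.1.app V (((preZ L).homologyπ 0).app V z) = Φ V.unop z := fun z =>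
      ConcreteCategory.congr_hom (congrArg (fun m => NatTrans.app m V) ψ.2) z
    constructor
    · refine (injective_iff_map_eq_zero _).2 fun a ha => ?_
      obtain ⟨z, rfl⟩ := hπ a
      obtain ⟨x, rfl⟩ := (hker V.unop z).1 ((hcomp z).symm.trans ha)
      exact ConcreteCategory.congr_hom (congrArg (fun m => NatTrans.app m V)
        ((preZ L).toCycles_comp_homologyπ (-1) 0)) x
    · intro a
      obtain ⟨z, rfl⟩ := hsurj V.unop a
      exact ⟨_, hcomp z⟩
  have : ∀ V, IsIso (ψ.1.app V) := fun V => (ConcreteCategory.isIso_iff_bijective _).2 (hψ V)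
  have : IsIso ψ.1 := NatIso.isIso_of_isIso_app _
  exact ⟨asIso ψ.1⟩

/-- For a K-injective complex, hypercohomology is the homology of the complex of sections. -/
theorem nonempty_hduIso [L.IsKInjective] :
    Nonempty ((preZ L).homology 0 ≅ CohCx.HDUPresheaf (Q.obj L) 0) :=
  exists_homology_iso L _ (fun V => zClass L V) (fun {_ _} hle z => zClass_res L hle z)
    (zClass_surjective L)
    fun V z => ⟨zClass_eq_zero L V z, by rintro ⟨x, rfl⟩; exact zClass_toCycles L V x⟩

/-- the cohomology presheaf is functorial in the complex -/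
def hduMapIso {K K' : DerivedCategory (Sheaf J AddCommGrpCat.{u})} (q q' : ℤ)
    (e : (shiftFunctor _ q).obj K ≅ (shiftFunctor _ q').obj K') :
    CohCx.HDUPresheaf K q ≅ CohCx.HDUPresheaf K' q' :=
  Functor.isoWhiskerLeft _ (preadditiveYoneda.mapIso e)

/-- sheafified hypercohomology presheaf = cohomology sheaf -/
theorem nonempty_sheafify_HDUPresheaf (K : DerivedCategory (Sheaf J AddCommGrpCat.{u})) (q : ℤ) :
    Nonempty ((presheafToSheaf J AddCommGrpCat.{u}).obj (CohCx.HDUPresheaf K q) ≅ CohCx.HD K q) := by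
  obtain ⟨N, j, hN⟩ := Resolve.exists_functorial_resolution (A := Sheaf J AddCommGrpCat.{u})
  let K' := (shiftFunctor _ q).obj K
  let M := Q.objPreimage K'
  let L := N.obj M
  haveI : QuasiIso (j.app M) := (hN M).2.1
  haveI : L.IsKInjective := (hN M).2.2.1
  let e : Q.obj L ≅ K' := (asIso (Q.map (j.app M))).symm ≪≫ Q.objObjPreimageIso K'
  obtain ⟨e₁⟩ := nonempty_hduIso L
  let e₂ : CohCx.HDUPresheaf (Q.obj L) 0 ≅ CohCx.HDUPresheaf K q :=
    hduMapIso 0 q ((shiftFunctorZero _ ℤ).app (Q.obj L) ≪≫ e)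
  let a := presheafToSheaf J AddCommGrpCat.{u}
  exact ⟨a.mapIso (e₁ ≪≫ e₂).symm ≪≫ (((preZ L).sc 0).mapHomologyIso a).symm ≪≫
    (HomologicalComplex.homologyFunctor _ _ 0).mapIso
      ((NatIso.mapHomologicalComplex (asIso (sheafificationAdjunction J AddCommGrpCat.{u}).counit)
        (ComplexShape.up ℤ)).app L) ≪≫
    ((homologyFunctorFactors _ 0).app L).symm ≪≫ (homologyFunctor _ 0).mapIso e ≪≫
    (((homologyFunctor (Sheaf J AddCommGrpCat.{u}) 0).shiftIso q 0 q (by omega)).app K)⟩

end Groth.Agent.SiteHDU
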